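import Groth.Agent.H12AlgSp.SpPush.Core
import Groth.Agent.H8Props.PushoutProps.Fibred
import Groth.Agent.H8Props.PushoutProps.BaseChange

/-!
Pushouts of two closed immersions of schemes have glueable etale covers.
-/

set_option autoImplicit false
set_option backward.isDefEq.respectTransparency false
set_option linter.style.haveILetI false

universe u

open CategoryTheory CategoryTheory.Limits AlgebraicGeometry Opposite
open Groth.Agent.H7Flat Groth.Agent.H8Props.PushoutProps

namespace Groth.Agent.H12AlgSp.SpPush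

variable {X Y Z P : Scheme.{u}} (i : Z ⟶ X) (j : Z ⟶ Y) [IsClosedImmersion i] [IsClosedImmersion j]
  {a : X ⟶ P} {b : Y ⟶ P}

theorem exists_pair (y : Y) : ∃ π : AP i j, y ∈ π.V := by
  refine exists_adapted_pair i j (fun y => ?_) y
  by_cases hy : ∃ z, j z = y
  · obtain ⟨z, rfl⟩ := hy
    obtain ⟨U, hU, hzU, -⟩ :=
      exists_isAffineOpen_mem_and_subset (Set.mem_univ (i z)) (U := (⊤ : X.Opens))
    refine ⟨U, hU, fun z' hz' => ?_⟩
    show i z' ∈ U
    rwa [j.isClosedEmbedding.injective (show j z' = j z from hz')]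
  · exact ⟨⊥, isAffineOpen_bot _, fun z hz => (hy ⟨z, hz⟩).elim⟩

theorem flatStable_closed (hP : IsPushout i j a b) : FlatStable a b := fun R r _ => by
  have h := isPushout_baseChange_flat hP (exists_pair i j) a b (i ≫ a) (𝟙 P) rfl hP.w.symm
    (Category.comp_id _) (Category.comp_id _) r
  exact ⟨_, _, _, h.of_iso (Iso.refl _) (Iso.refl _) (Iso.refl _) (asIso (pullback.snd (𝟙 P) r))
    (Category.comp_id _ |>.trans (Category.id_comp _).symm) (Category.comp_id _ |>.trans (Category.id_comp _).symm) (by simp) (by simp)⟩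

theorem etaleLift_closed (hP : IsPushout i j a b) : EtaleLift i j a b := by
  intro X' Y' Z' f g h i' j' hX hY hf hg _ _
  haveI : IsClosedImmersion i' := MorphismProperty.of_isPullback hX.flip inferInstance
  haveI : IsClosedImmersion j' := MorphismProperty.of_isPullback hY.flip inferInstance
  have hP' : IsPushout i' j' _ _ := glued_isPushout (exists_pair i' j')
  let k : glued i' j' ⟶ P := hP'.desc (f ≫ a) (g ≫ b)
    (by rw [← Category.assoc, hX.w, Category.assoc, hP.w, ← Category.assoc, ← hY.w, Category.assoc])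
  have ha : inX (exists_pair i' j') ≫ k = f ≫ a := hP'.inl_desc _ _ _
  have hb : inY (exists_pair i' j') ≫ k = g ≫ b := hP'.inr_desc _ _ _
  obtain ⟨-, -, -, hpa, hpb, -⟩ := main_closed i j a b hP f g i' j' h hX hY _ _ hP' k ha hb
  exact ⟨_, k, _, _, ((properties_iff i j a b hP f g i' j' h hX hY _ _ hP' k ha hb).2.2.2.2).2 ⟨hf, hg⟩,
    hP', hpa, hpb⟩

end Groth.Agent.H12AlgSp.SpPush
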