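import Groth.Agent.H12AlgSp.Presentation
import Groth.Agent.H12AlgSp.SchImage

/-!
Pushouts of schemes whose etale covers again have pushouts are pushouts among algebraic spaces.
-/

set_option autoImplicit false
set_option backward.isDefEq.respectTransparency false
set_option linter.style.haveILetI false

universe u

open CategoryTheory CategoryTheory.Limits AlgebraicGeometry Opposite
open AlgSp Groth.Agent.H13AlgSp

namespace Groth.Agent.H12AlgSp.SpPush

variable {S : Scheme.{u}}

/-- Flat schemes over a pushout are pushouts of their restrictions. -/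
def FlatStable {X Y P : Scheme.{u}} (a : X ⟶ P) (b : Y ⟶ P) : Prop :=
  ∀ (R : Scheme.{u}) (r : R ⟶ P), Flat r →
    ∃ (Zr : Scheme.{u}) (u : Zr ⟶ pullback a r) (v : Zr ⟶ pullback b r),
      IsPushout u v (pullback.snd a r) (pullback.snd b r)

/-- Etale covers of the two sides glue to an etale scheme over the pushout. -/
def EtaleLift {Z X Y P : Scheme.{u}} (i : Z ⟶ X) (j : Z ⟶ Y) (a : X ⟶ P) (b : Y ⟶ P) : Prop :=
  ∀ ⦃X' Y' Z' : Scheme.{u}⦄ (f : X' ⟶ X) (g : Y' ⟶ Y) (h : Z' ⟶ Z) (i' : Z' ⟶ X') (j' : Z' ⟶ Y'),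
    IsPullback i' h f i → IsPullback j' h g j → Etale f → Etale g → IsSeparated f → IsSeparated g →
    ∃ (P' : Scheme.{u}) (k : P' ⟶ P) (a' : X' ⟶ P') (b' : Y' ⟶ P'), Etale k ∧
      IsPushout i' j' a' b' ∧ IsPullback f a' a k ∧ IsPullback g b' b k

variable {X Y P : Over S} {a : X ⟶ P} {b : Y ⟶ P} {T : Sp S}

/-- Maps to an algebraic space from a flat scheme over a pushout agree if they do so on both pieces. -/
theorem hom_ext (hT : IsAlgSpace T) (hbc : FlatStable a.left b.left) {R : Over S} (r : R ⟶ P)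
    (hr : Flat r.left) {m m' : (yon S).obj R ⟶ T}
    (hX : ∀ (Q : Over S) (l : Q ⟶ R) (x : Q ⟶ X), l ≫ r = x ≫ a →
      (yon S).map l ≫ m = (yon S).map l ≫ m')
    (hY : ∀ (Q : Over S) (l : Q ⟶ R) (y : Q ⟶ Y), l ≫ r = y ≫ b →
      (yon S).map l ≫ m = (yon S).map l ≫ m') : m = m' := by
  obtain ⟨E, e, d, sq⟩ := hT.diag (prod.lift m m')
  haveI : Mono (Limits.diag T) :=
    mono_of_mono_fac (show Limits.diag T ≫ prod.fst = 𝟙 T from prod.lift_fst _ _)
  haveI : Mono ((yon S).map e) := sq.mono_snd_of_mono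
  haveI : Mono e := (yon S).mono_of_mono_map inferInstance
  have lift : ∀ (Q : Over S) (l : Q ⟶ R), (yon S).map l ≫ m = (yon S).map l ≫ m' →
      ∃ q : Q ⟶ E, q ≫ e = l := fun Q l h => by
    obtain ⟨q, hq⟩ := (yon S).map_surjective (sq.lift ((yon S).map l ≫ m) ((yon S).map l)
      (by ext <;> simp [h]))
    exact ⟨q, (yon S).map_injective (by rw [Functor.map_comp, hq, sq.lift_snd])⟩
  obtain ⟨Zr, u, v, hpo⟩ := hbc R.left r.left hr
  obtain ⟨qX, hqX⟩ := lift (Over.mk (pullback.snd a.left r.left ≫ R.hom)) (Over.homMk (pullback.snd _ _) rfl)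
    (hX _ _ (Over.homMk (pullback.fst a.left r.left) (by
      rw [← Over.w a, ← Category.assoc, pullback.condition, Category.assoc, Over.w r]; rfl))
      (Over.OverMorphism.ext pullback.condition.symm))
  obtain ⟨qY, hqY⟩ := lift (Over.mk (pullback.snd b.left r.left ≫ R.hom)) (Over.homMk (pullback.snd _ _) rfl)
    (hY _ _ (Over.homMk (pullback.fst b.left r.left) (by
      rw [← Over.w b, ← Category.assoc, pullback.condition, Category.assoc, Over.w r]; rfl))
      (Over.OverMorphism.ext pullback.condition.symm))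
  have eX : qX.left ≫ e.left = pullback.snd _ _ := congrArg Over.Hom.left hqX
  have eY : qY.left ≫ e.left = pullback.snd _ _ := congrArg Over.Hom.left hqY
  haveI : Mono e.left := inferInstanceAs (Mono ((Over.forget S).map e))
  have hw : u ≫ qX.left = v ≫ qY.left := by
    rw [← cancel_mono e.left, Category.assoc, Category.assoc, eX, eY, hpo.w]
  have hl : hpo.desc qX.left qY.left hw ≫ e.left = 𝟙 _ := hpo.hom_ext
    (by rw [hpo.inl_desc_assoc, eX, Category.comp_id]) (by rw [hpo.inr_desc_assoc, eY, Category.comp_id])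
  let l : R ⟶ E := Over.homMk (hpo.desc qX.left qY.left hw) (by
    rw [← Over.w e, ← Category.assoc, hl, Category.id_comp])
  have hle : l ≫ e = 𝟙 R := Over.OverMorphism.ext hl
  have h := congrArg ((yon S).map l ≫ ·) sq.w
  simp only [← Category.assoc, ← Functor.map_comp, hle, CategoryTheory.Functor.map_id, Category.id_comp] at h
  have h1 := h =≫ prod.fst
  have h2 := h =≫ prod.snd
  simp at h1 h2
  exact h1.symm.trans h2

variable {Z : Over S} {i : Z ⟶ X} {j : Z ⟶ Y}

/-- A scheme pushout with glueable etale covers maps uniquely to an algebraic space. -/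
theorem exists_desc (hT : IsAlgSpace T) (hP : IsPushout i.left j.left a.left b.left)
    (hbc : FlatStable a.left b.left) (hlift : EtaleLift i.left j.left a.left b.left)
    {U : Over S} {p : (yon S).obj U ⟶ T} (hp : RepWith @Etale p) (hps : RepWith @Surjective p)
    (hU : IsSeparated U.hom) (gX : (yon S).obj X ⟶ T) (gY : (yon S).obj Y ⟶ T)
    (w : (yon S).map i ≫ gX = (yon S).map j ≫ gY) :
    ∃ m : (yon S).obj P ⟶ T, (yon S).map a ≫ m = gX ∧ (yon S).map b ≫ m = gY := by
  obtain ⟨X', f, qX', sqX⟩ := hp.rep gX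
  obtain ⟨qX, rfl⟩ := (yon S).map_surjective qX'
  obtain ⟨Y', g, qY', sqY⟩ := hp.rep gY
  obtain ⟨qY, rfl⟩ := (yon S).map_surjective qY'
  have hfe : Etale f.left := hp.property gX _ f sqX
  have hge : Etale g.left := hp.property gY _ g sqY
  have hfs : Surjective f.left := hps.property gX _ f sqX
  have hgs : Surjective g.left := hps.property gY _ g sqY
  have hsep : ∀ {A A' : Over S} (φ : A' ⟶ A) (q : A' ⟶ U) (γ₀ : (yon S).obj A ⟶ T),
      IsPullback ((yon S).map q) ((yon S).map φ) p γ₀ → IsSeparated φ.left := by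
    intro A A' φ q γ₀ sq
    let k : A'.left ⟶ pullback A.hom U.hom :=
      pullback.lift φ.left q.left ((Over.w φ).trans (Over.w q).symm)
    have hk : Mono k := ⟨fun {W} x y e => by
      let xo : Over.mk (x ≫ A'.hom) ⟶ A' := Over.homMk x rfl
      let yo : Over.mk (x ≫ A'.hom) ⟶ A' := Over.homMk y (by
        have := congrArg (· ≫ pullback.fst _ _ ≫ A.hom) e
        simpa [k] using this.symm)
      have h1 : xo ≫ φ = yo ≫ φ := Over.OverMorphism.ext (by
        simpa [k, xo, yo] using congrArg (· ≫ pullback.fst _ _) e)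
      have h2 : xo ≫ q = yo ≫ q := Over.OverMorphism.ext (by
        simpa [k, xo, yo] using congrArg (· ≫ pullback.snd _ _) e)
      exact congrArg Over.Hom.left ((yon S).map_injective (sq.hom_ext
        (by rw [← Functor.map_comp, ← Functor.map_comp, h2])
        (by rw [← Functor.map_comp, ← Functor.map_comp, h1]) : (yon S).map xo = (yon S).map yo))⟩
    have : k ≫ pullback.fst _ _ = φ.left := pullback.lift_fst _ _ _
    rw [← this]
    infer_instance
  have hfsep := hsep f qX gX sqX
  have hgsep := hsep g qY gY sqY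
  -- the common part
  let Z' := pullback f i
  let i' : Z' ⟶ X' := pullback.fst f i
  let h : Z' ⟶ Z := pullback.snd f i
  have sqi : IsPullback i' h f i := IsPullback.of_hasPullback f i
  have sqZ := (sqi.map (yon S)).paste_horiz sqX
  obtain ⟨j', hj'⟩ := (yon S).map_surjective (sqY.lift ((yon S).map i' ≫ (yon S).map qX)
    ((yon S).map (h ≫ j)) (by rw [sqZ.w, Functor.map_comp, Category.assoc, w]))
  have hj₁ : j' ≫ qY = i' ≫ qX := (yon S).map_injective (by
    rw [Functor.map_comp, Functor.map_comp, hj', sqY.lift_fst])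
  have hj₂ : j' ≫ g = h ≫ j := (yon S).map_injective (by rw [Functor.map_comp, hj', sqY.lift_snd])
  have sqj : IsPullback j' h g j := by
    refine IsPullback.of_map (yon S) hj₂ (IsPullback.of_right ?_ ?_ sqY)
    · rw [← Functor.map_comp, hj₁, Functor.map_comp, ← w]
      exact sqZ
    · rw [← Functor.map_comp, ← Functor.map_comp, hj₂]
  obtain ⟨P', k, a', b', hk, hP', hpa, hpb⟩ := hlift f.left g.left h.left i'.left j'.left
    (isPullback_left sqi) (isPullback_left sqj) hfe hge hfsep hgsep
  let oP : Over S := Over.mk (k ≫ P.hom)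
  let ok : oP ⟶ P := Over.homMk k rfl
  let oa : X' ⟶ oP := Over.homMk a' (by
    rw [← Over.w f, ← Over.w a]
    exact ((reassoc_of% hpa.w) _).symm)
  let ob : Y' ⟶ oP := Over.homMk b' (by
    rw [← Over.w g, ← Over.w b]
    exact ((reassoc_of% hpb.w) _).symm)
  have hks : Surjective k := by
    let O : P.left.Opens := ⟨Set.range k, k.isOpenMap.isOpen_range⟩
    have hOX : Set.range a.left ⊆ Set.range O.ι := by
      rw [Scheme.Opens.range_ι]
      rintro _ ⟨x, rfl⟩
      obtain ⟨x', rfl⟩ := f.left.surjective x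
      exact ⟨a' x', by rw [← Scheme.Hom.comp_apply, ← hpa.w, Scheme.Hom.comp_apply]⟩
    have hOY : Set.range b.left ⊆ Set.range O.ι := by
      rw [Scheme.Opens.range_ι]
      rintro _ ⟨y, rfl⟩
      obtain ⟨y', rfl⟩ := g.left.surjective y
      exact ⟨b' y', by rw [← Scheme.Hom.comp_apply, ← hpb.w, Scheme.Hom.comp_apply]⟩
    have hw : i.left ≫ IsOpenImmersion.lift O.ι a.left hOX = j.left ≫ IsOpenImmersion.lift O.ι b.left hOY := by
      rw [← cancel_mono O.ι, Category.assoc, Category.assoc, IsOpenImmersion.lift_fac,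
        IsOpenImmersion.lift_fac, hP.w]
    refine ⟨fun z => ?_⟩
    have hz := congrArg (fun φ : P.left ⟶ P.left => φ z) (show hP.desc _ _ hw ≫ O.ι = 𝟙 _ from hP.hom_ext
      (by rw [hP.inl_desc_assoc, IsOpenImmersion.lift_fac, Category.comp_id])
      (by rw [hP.inr_desc_assoc, IsOpenImmersion.lift_fac, Category.comp_id]))
    have hz' : ((hP.desc _ _ hw ≫ O.ι) z) ∈ O := (hP.desc _ _ hw z).2
    exact (show z ∈ O from (show ((hP.desc _ _ hw ≫ O.ι) z) = z from hz) ▸ hz')
  have hwu : i'.left ≫ qX.left = j'.left ≫ qY.left := congrArg Over.Hom.left hj₁.symm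
  let ou : oP ⟶ U := Over.homMk (hP'.desc qX.left qY.left hwu) (hP'.hom_ext
    (by rw [hP'.inl_desc_assoc, Over.w qX]; exact (Over.w oa).symm)
    (by rw [hP'.inr_desc_assoc, Over.w qY]; exact (Over.w ob).symm))
  have houa : oa ≫ ou = qX := Over.OverMorphism.ext (hP'.inl_desc _ _ _)
  have houb : ob ≫ ou = qY := Over.OverMorphism.ext (hP'.inr_desc _ _ _)
  have sqa : IsPullback f oa a ok := IsPullback.of_map (Over.forget S) (Over.OverMorphism.ext hpa.w) hpa
  have sqb : IsPullback g ob b ok := IsPullback.of_map (Over.forget S) (Over.OverMorphism.ext hpb.w) hpb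
  have ptX : ∀ (Q : Over S) (c : Q ⟶ oP) (x : Q ⟶ X), c ≫ ok = x ≫ a →
      (yon S).map (c ≫ ou) ≫ p = (yon S).map x ≫ gX := fun Q c x e => by
    rw [← sqa.lift_snd x c e.symm, Category.assoc, houa, Functor.map_comp, Category.assoc, sqX.w,
      ← Category.assoc, ← Functor.map_comp, sqa.lift_fst]
  have ptY : ∀ (Q : Over S) (c : Q ⟶ oP) (y : Q ⟶ Y), c ≫ ok = y ≫ b →
      (yon S).map (c ≫ ou) ≫ p = (yon S).map y ≫ gY := fun Q c y e => by
    rw [← sqb.lift_snd y c e.symm, Category.assoc, houb, Functor.map_comp, Category.assoc, sqY.w,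
      ← Category.assoc, ← Functor.map_comp, sqb.lift_fst]
  -- descent
  have hfl : Flat (pullback.fst ok ok ≫ ok).left := by
    have : Etale (pullback.fst ok ok).left := MorphismProperty.of_isPullback (P := @Etale)
      (isPullback_left (IsPullback.of_hasPullback ok ok)).flip hk
    change Flat ((pullback.fst ok ok).left ≫ k)
    infer_instance
  have hag : (yon S).map (pullback.fst ok ok ≫ ou) ≫ p = (yon S).map (pullback.snd ok ok ≫ ou) ≫ p := by
    refine hom_ext hT hbc (pullback.fst ok ok ≫ ok) hfl (fun Q l x e => ?_) (fun Q l y e => ?_)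
    · simp only [← Category.assoc, ← Functor.map_comp]
      rw [ptX Q (l ≫ pullback.fst ok ok) x (by rw [Category.assoc, e]),
        ptX Q (l ≫ pullback.snd ok ok) x (by rw [Category.assoc, ← pullback.condition, e])]
    · simp only [← Category.assoc, ← Functor.map_comp]
      rw [ptY Q (l ≫ pullback.fst ok ok) y (by rw [Category.assoc, e]),
        ptY Q (l ≫ pullback.snd ok ok) y (by rw [Category.assoc, ← pullback.condition, e])]
  have hke : RepWith @Etale ((yon S).map ok) := (repWith_yon_map_iff _ _).2 hk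
  have := epi_of_etale_surjective hke ((repWith_yon_map_iff _ _).2 hks)
  have : IsRegularEpi ((yon S).map ok) := IsRegularEpiCategory.regularEpiOfEpi _
  have hcond : IsRegularEpi.left ((yon S).map ok) ≫ (yon S).map ou ≫ p =
      IsRegularEpi.right ((yon S).map ok) ≫ (yon S).map ou ≫ p := by
    obtain ⟨l, hl₁, hl₂⟩ := ((IsPullback.of_hasPullback ok ok).map (yon S)).exists_lift _ _
      (IsRegularEpi.w ((yon S).map ok))
    rw [← hl₁, ← hl₂]
    simp only [Category.assoc]
    rw [← Category.assoc ((yon S).map (pullback.fst ok ok)), ← Category.assoc ((yon S).map (pullback.snd ok ok)),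
      ← Functor.map_comp, ← Functor.map_comp, hag]
  let m : (yon S).obj P ⟶ T := IsRegularEpi.desc ((yon S).map ok) ((yon S).map ou ≫ p) hcond
  have hm : (yon S).map ok ≫ m = (yon S).map ou ≫ p :=
    Cofork.IsColimit.π_desc' (IsRegularEpi.isColimit _) _ hcond
  refine ⟨m, ?_, ?_⟩
  · haveI := epi_of_etale_surjective ((repWith_yon_map_iff _ f).2 hfe) ((repWith_yon_map_iff _ f).2 hfs)
    rw [← cancel_epi ((yon S).map f), ← Category.assoc, ← Functor.map_comp, sqa.w, Functor.map_comp,
      Category.assoc, hm, ← Category.assoc, ← Functor.map_comp, houa, sqX.w]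
  · haveI := epi_of_etale_surjective ((repWith_yon_map_iff _ g).2 hge) ((repWith_yon_map_iff _ g).2 hgs)
    rw [← cancel_epi ((yon S).map g), ← Category.assoc, ← Functor.map_comp, sqb.w, Functor.map_comp,
      Category.assoc, hm, ← Category.assoc, ← Functor.map_comp, houb, sqY.w]

end Groth.Agent.H12AlgSp.SpPush
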