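import Groth.Agent.H8Props.PushoutQF.Ring
import Groth.Agent.H8Props.PushoutProps.Descend
import Groth.Agent.H9Hens.MilnorFlat
import Mathlib.RingTheory.Kaehler.TensorProduct
import Mathlib.RingTheory.Smooth.Fiber
import Mathlib.RingTheory.RingHom.Etale
import Mathlib.RingTheory.Smooth.Flat

/-!
Etale algebras over a fibre product of rings along a surjection.
-/

set_option autoImplicit false
set_option linter.style.haveILetI false
set_option backward.isDefEq.respectTransparency false

universe u

open TensorProduct Groth.Agent.H7Flat Groth.Agent.H8Props.PushoutQF Groth.Agent.H8Props.PushoutProps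

namespace Groth.Agent.H12AlgSp.SpPush

/-- Finite presentation of algebras descends to a fibre product of rings along a surjection. -/
theorem finitePresentation_of_square {R B A C : Type u} [CommRing R] [CommRing B] [CommRing A] [CommRing C]
    [Algebra R B] [Algebra R A] [Algebra B C] [Algebra A C] [Algebra R C] [IsScalarTower R B C]
    [IsScalarTower R A C] (hsq : EtMil.IsFibreSquare R B A C) {R' : Type u} [CommRing R'] [Algebra R R']
    [Algebra.FiniteType R R'] [Module.Flat R R'] [Algebra.FinitePresentation A (A ⊗[R] R')]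
    [Algebra.FinitePresentation B (B ⊗[R] R')] : Algebra.FinitePresentation R R' := by
  classical
  obtain ⟨n, f, hf⟩ := Algebra.FiniteType.iff_quotient_mvPolynomial''.1 ‹Algebra.FiniteType R R'›
  obtain ⟨sA, hsA, hsAK, hkA⟩ := exists_finset_ker (C := A) f hf
  obtain ⟨sB, hsB, hsBK, hkB⟩ := exists_finset_ker (C := B) f hf
  let K₀ : Ideal (MvPolynomial (Fin n) R) := Ideal.span (sA ∪ sB)
  have hK₀fg : K₀.FG := Submodule.fg_span (hsA.union hsB)
  have hK₀ : K₀ ≤ RingHom.ker f := Ideal.span_le.2 (Set.union_subset hsAK hsBK)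
  let q := Ideal.Quotient.mkₐ R K₀
  let π : (MvPolynomial (Fin n) R ⧸ K₀) →ₐ[R] R' := Ideal.Quotient.liftₐ K₀ f fun x hx => hK₀ hx
  have hπ : Function.Surjective π := fun x => by
    obtain ⟨y, rfl⟩ := hf x
    exact ⟨q y, rfl⟩
  let N := LinearMap.ker π.toLinearMap
  have key : ∀ (T : Type u) [CommRing T] [Algebra R T] (s : Set (MvPolynomial (Fin n) R)),
      s ⊆ sA ∪ sB → RingHom.ker (Algebra.TensorProduct.map (AlgHom.id R T) f) ≤
        (Ideal.span s).map (Algebra.TensorProduct.includeRight : _ →ₐ[R] T ⊗[R] _) →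
      Subsingleton (T ⊗[R] N) := by
    intro T _ _ s hs hker
    refine subsingleton_of_forall_eq 0 fun z => ?_
    have hinjN : Function.Injective (N.subtype.lTensor T) :=
      LinearMap.lTensor_injective_of_exact_of_flat π.toLinearMap hπ _ Subtype.val_injective
        (LinearMap.exact_subtype_ker_map π.toLinearMap) T
    refine hinjN (a₂ := 0) ?_
    rw [map_zero]
    obtain ⟨w, hw⟩ : ∃ w, Algebra.TensorProduct.map (AlgHom.id R T) q w = N.subtype.lTensor T z :=
      LinearMap.lTensor_surjective T (g := q.toLinearMap) Ideal.Quotient.mk_surjective _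
    have hwf : Algebra.TensorProduct.map (AlgHom.id R T) f w = 0 := by
      show f.toLinearMap.lTensor T w = 0
      rw [show f.toLinearMap = π.toLinearMap ∘ₗ q.toLinearMap from rfl, LinearMap.lTensor_comp_apply,
        show q.toLinearMap.lTensor T w = N.subtype.lTensor T z from hw, ← LinearMap.lTensor_comp_apply,
        show π.toLinearMap ∘ₗ N.subtype = 0 from LinearMap.ext fun x => x.2,
        LinearMap.lTensor_zero, LinearMap.zero_apply]
    have h2 : w ∈ RingHom.ker (Algebra.TensorProduct.map (AlgHom.id R T) q) := by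
      rw [Algebra.TensorProduct.lTensor_ker q (Ideal.Quotient.mkₐ_surjective R K₀),
        show RingHom.ker q = K₀ from Ideal.Quotient.mkₐ_ker R K₀]
      exact Ideal.map_mono (Ideal.span_mono hs) (hker hwf)
    exact hw.symm.trans h2
  haveI := key A sA Set.subset_union_left hkA
  haveI := key B sB Set.subset_union_right hkB
  haveI : Subsingleton N := H9Hens.Milnor.subsingleton_of_baseChange hsq N
  have hπinj : Function.Injective π := (injective_iff_map_eq_zero π).2 fun x hx =>
    congrArg Subtype.val (Subsingleton.elim (⟨x, hx⟩ : N) 0)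
  haveI : Algebra.FinitePresentation R (MvPolynomial (Fin n) R ⧸ K₀) :=
    Algebra.FinitePresentation.quotient hK₀fg
  exact Algebra.FinitePresentation.equiv (AlgEquiv.ofBijective π ⟨hπinj, hπ⟩)

variable {R A B C R' A' B' C' : Type u} [CommRing R] [CommRing A] [CommRing B] [CommRing C]
  [CommRing R'] [CommRing A'] [CommRing B'] [CommRing C']
  {pa : R →+* A} {pb : R →+* B} {p : A →+* C} {q : B →+* C}
  {pa' : R' →+* A'} {pb' : R' →+* B'} {p' : A' →+* C'} {q' : B' →+* C'}
  {φ : R →+* R'} {fA : A →+* A'} {fB : B →+* B'} {fC : C →+* C'}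

/-- A cartesian map of fibre squares which is etale on both sides is etale. -/
theorem sqHom_etale (H : SqHom pa pb p q pa' pb' p' q' φ fA fB fC) (hA : fA.Etale) (hB : fB.Etale) :
    φ.Etale := by
  letI := pa.toAlgebra
  letI := pb.toAlgebra
  letI := p.toAlgebra
  letI := q.toAlgebra
  letI : Algebra R C := (p.comp pa).toAlgebra
  haveI : IsScalarTower R A C := IsScalarTower.of_algebraMap_eq fun _ => rfl
  haveI : IsScalarTower R B C := IsScalarTower.of_algebraMap_eq fun z => H.sq.comm z
  have hsq : EtMil.IsFibreSquare R B A C := ⟨H.sq.surj, fun b a h => by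
    obtain ⟨z, hz₁, hz₂⟩ := H.sq.exists_lift a b h.symm
    exact ⟨z, ⟨hz₂, hz₁⟩, fun z' hz' => H.sq.ext _ _ (hz'.2.trans hz₁.symm) (hz'.1.trans hz₂.symm)⟩⟩
  letI := φ.toAlgebra
  letI := fA.toAlgebra
  letI := fB.toAlgebra
  letI := pa'.toAlgebra
  letI := pb'.toAlgebra
  letI : Algebra R A' := (fA.comp pa).toAlgebra
  letI : Algebra R B' := (fB.comp pb).toAlgebra
  haveI : IsScalarTower R A A' := IsScalarTower.of_algebraMap_eq fun _ => rfl
  haveI : IsScalarTower R B B' := IsScalarTower.of_algebraMap_eq fun _ => rfl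
  haveI : IsScalarTower R R' A' := IsScalarTower.of_algebraMap_eq' H.commA.symm
  haveI : IsScalarTower R R' B' := IsScalarTower.of_algebraMap_eq' H.commB.symm
  haveI hPA : Algebra.IsPushout R A R' A' := CommRingCat.isPushout_iff_isPushout.1 H.isPushout.1
  haveI hPB : Algebra.IsPushout R B R' B' := CommRingCat.isPushout_iff_isPushout.1 H.isPushout.2
  let eA := Algebra.IsPushout.equiv R A R' A'
  let eB := Algebra.IsPushout.equiv R B R' B'
  haveI : Algebra.Etale A A' := hA
  haveI : Algebra.Etale B B' := hB
  haveI : Module.Flat A (A ⊗[R] R') := Module.Flat.of_linearEquiv eA.toLinearEquiv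
  haveI : Module.Flat B (B ⊗[R] R') := Module.Flat.of_linearEquiv eB.toLinearEquiv
  haveI : Module.Flat R R' := H9Hens.Milnor.flat_of_flat_baseChange hsq
  haveI : Algebra.FinitePresentation A (A ⊗[R] R') := Algebra.FinitePresentation.equiv eA.symm
  haveI : Algebra.FinitePresentation B (B ⊗[R] R') := Algebra.FinitePresentation.equiv eB.symm
  haveI : Algebra.FiniteType R R' :=
    H.finiteType (RingHom.FiniteType.of_finitePresentation (inferInstanceAs (Algebra.FinitePresentation A A')))
      (RingHom.FiniteType.of_finitePresentation (inferInstanceAs (Algebra.FinitePresentation B B')))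
  haveI : Algebra.FinitePresentation R R' := finitePresentation_of_square hsq
  haveI : Algebra.FormallyUnramified R R' := by
    rw [Algebra.formallyUnramified_iff]
    haveI : Subsingleton (A ⊗[R] Ω[R'⁄R]) :=
      (KaehlerDifferential.tensorKaehlerEquivBase R A R' A').injective.subsingleton
    haveI : Subsingleton (B ⊗[R] Ω[R'⁄R]) :=
      (KaehlerDifferential.tensorKaehlerEquivBase R B R' B').injective.subsingleton
    exact H9Hens.Milnor.subsingleton_of_baseChange hsq _
  exact Algebra.Etale.of_formallyUnramified_of_flat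

end Groth.Agent.H12AlgSp.SpPush
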