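import Groth.Agent.H12AlgSp.SpPush.Core
import Groth.Agent.H12AlgSp.SpPush.PinchRing
import Groth.Agent.H8Props.PushoutQF.Main
import Groth.Agent.H8Props.PushoutProps.BaseChange
import Groth.Agent.H7Lim.Thickening
import Groth.Agent.H06Unram.SmoothQF

/-!
Etale covers of the two sides of a pinching glue.
-/

set_option autoImplicit false
set_option backward.isDefEq.respectTransparency false
set_option linter.style.haveILetI false

universe u

open CategoryTheory CategoryTheory.Limits AlgebraicGeometry Opposite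
open Groth.Agent.H7Flat Groth.Agent.H8Props.PushoutQF Groth.Agent.H8Props.PushoutProps

namespace Groth.Agent.H12AlgSp.SpPush

variable {X Y Z P : Scheme.{u}} (i : Z ⟶ X) (j : Z ⟶ Y) [IsClosedImmersion i]
  {a : X ⟶ P} {b : Y ⟶ P}

theorem flatStable_of_cov (hP : IsPushout i j a b) (hcov : ∀ y : Y, ∃ π : AP i j, y ∈ π.V) :
    FlatStable a b := fun R r _ => by
  have h := isPushout_baseChange_flat hP hcov a b (i ≫ a) (𝟙 P) rfl hP.w.symm
    (Category.comp_id _) (Category.comp_id _) r
  exact ⟨_, _, _, h.of_iso (Iso.refl _) (Iso.refl _) (Iso.refl _) (asIso (pullback.snd (𝟙 P) r))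
    (Category.comp_id _ |>.trans (Category.id_comp _).symm) (Category.comp_id _ |>.trans (Category.id_comp _).symm)
    (by simp) (by simp)⟩

/-- Pinchings glue etale covers as long as the covers still have adapted pairs. -/
theorem etaleLift_of_cov (hP : IsPushout i j a b) (hcov : ∀ y : Y, ∃ π : AP i j, y ∈ π.V)
    (hcov' : ∀ ⦃X' Y' Z' : Scheme.{u}⦄ (f : X' ⟶ X) (g : Y' ⟶ Y) (h : Z' ⟶ Z) (i' : Z' ⟶ X') (j' : Z' ⟶ Y'),
      IsPullback h i' i f → IsPullback h j' j g → Etale f → Etale g → IsSeparated f → IsSeparated g →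
        ∀ y' : Y', ∃ π : AP i' j', y' ∈ π.V) : EtaleLift i j a b := by
  intro X' Y' Z' f g h i' j' hX₀ hY₀ hf hg hfs hgs
  have hX := hX₀.flip
  have hY := hY₀.flip
  haveI : IsClosedImmersion i' := MorphismProperty.of_isPullback hX inferInstance
  have hcov'' := hcov' f g h i' j' hX hY hf hg hfs hgs
  obtain ⟨e, rfl, rfl⟩ := H28Pinch.exists_iso_glued a b hP hcov
  have hP' := glued_isPushout hcov''
  let k : glued i' j' ⟶ glued i j := hP'.desc (f ≫ inX hcov) (g ≫ inY hcov) (by
    rw [← Category.assoc, ← hX.w, Category.assoc, inX_comm hcov, ← Category.assoc, hY.w, Category.assoc])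
  have hkX : inX hcov'' ≫ k = f ≫ inX hcov := hP'.inl_desc _ _ _
  have hkY : inY hcov'' ≫ k = g ≫ inY hcov := hP'.inr_desc _ _ _
  let I := {x : AP i' j' × AP i j // Over' f g x.1 x.2}
  let 𝒰 : (glued i' j').OpenCover :=
    { I₀ := I
      X := fun x => Spec (CommRingCat.of x.1.1.R)
      f := fun x => chart i' j' x.1.1
      mem₀ := by
        rw [Scheme.presieve₀_mem_precoverage_iff]
        refine ⟨fun w => ?_, fun x => inferInstance⟩
        obtain ⟨π', π, o, hw⟩ := exists_over hX hY hcov w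
        exact ⟨⟨(π', π), o⟩, hw⟩ }
  have het : Etale k := by
    refine IsZariskiLocalAtSource.of_openCover (P := @Etale) 𝒰 fun x => ?_
    show Etale (chart i' j' x.1.1 ≫ k)
    rw [x.2.chart_comp hX hY hcov hcov'' k hkX hkY]
    haveI : Etale (sm (x.2.φ hX hY)) := (HasRingHomProperty.Spec_iff (P := @Etale)).2
      (sqHom_etale (x.2.sqHom hX hY) (f.etale_appLE x.1.2.hU x.1.1.hU x.2.hU)
        (g.etale_appLE x.1.2.hV x.1.1.hV x.2.hV))
    infer_instance
  have hpb : IsPullback g (inY hcov'') (inY hcov) k := by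
    refine isPullback_of_cover hkY.symm fun c => ?_
    obtain ⟨π', π, o, hc⟩ := exists_over hX hY hcov c
    have h1 : IsPullback π'.hV.fromSpec (sm π'.pb) (inY hcov'') (chart i' j' π') :=
      (IsOpenImmersion.isPullback _ _ _ _ (fromSpec_inY hcov'' π') (inY_preimage hcov'' π')).flip
    refine ⟨_, chart i' j' π', inferInstance, hc, _, π'.hV.fromSpec, sm π'.pb, h1, ?_⟩
    rw [← o.spec_fB, o.chart_comp hX hY hcov hcov'' k hkX hkY]
    exact (isPullback_SpecMap_of_isPushout _ _ _ _ (o.sqHom hX hY).isPushout.2).paste_horiz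
      (IsOpenImmersion.isPullback _ _ _ _ (fromSpec_inY hcov π) (inY_preimage hcov π)).flip
  have hpa : IsPullback f (inX hcov'') (inX hcov) k := by
    refine isPullback_of_cover hkX.symm fun c => ?_
    obtain ⟨π', π, o, hc⟩ := exists_over hX hY hcov c
    have h1 : IsPullback π'.hU.fromSpec (sm π'.pa) (inX hcov'') (chart i' j' π') :=
      (IsOpenImmersion.isPullback _ _ _ _ (fromSpec_inX hcov'' π') (inX_preimage hcov'' π')).flip
    refine ⟨_, chart i' j' π', inferInstance, hc, _, π'.hU.fromSpec, sm π'.pa, h1, ?_⟩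
    rw [← o.spec_fA, o.chart_comp hX hY hcov hcov'' k hkX hkY]
    exact (isPullback_SpecMap_of_isPushout _ _ _ _ (o.sqHom hX hY).isPushout.1).paste_horiz
      (IsOpenImmersion.isPullback _ _ _ _ (fromSpec_inX hcov π) (inX_preimage hcov π)).flip
  exact ⟨_, k ≫ e.hom, inX hcov'', inY hcov'', inferInstance, hP',
    hpa.of_iso (Iso.refl _) (Iso.refl _) (Iso.refl _) e (by simp) (by simp) (by simp) (by simp),
    hpb.of_iso (Iso.refl _) (Iso.refl _) (Iso.refl _) e (by simp) (by simp) (by simp) (by simp)⟩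

/-- Pinchings along integral maps. -/
theorem exists_pair_integral [IsIntegralHom j]
    (h3 : ∀ y : Y, ∃ U : X.Opens, IsAffineOpen U ∧ j ⁻¹' {y} ⊆ i ⁻¹' (U : Set X))
    ⦃X' Y' Z' : Scheme.{u}⦄ (f : X' ⟶ X) (g : Y' ⟶ Y) (h : Z' ⟶ Z) (i' : Z' ⟶ X') (j' : Z' ⟶ Y')
    (hX : IsPullback h i' i f) (hY : IsPullback h j' j g) (hf : Etale f) (_ : Etale g) (_ : IsSeparated f)
    (_ : IsSeparated g) (y' : Y') : ∃ π : AP i' j', y' ∈ π.V := by
  haveI : IsClosedImmersion i' := MorphismProperty.of_isPullback hX inferInstance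
  haveI : IsIntegralHom j' := MorphismProperty.of_isPullback hY inferInstance
  haveI : LocallyQuasiFinite f := ((H06Unram.etale_iff_smooth_and_locallyQuasiFinite f).mp hf).2
  refine exists_adapted_pair i' j' (fun y' => ?_) y'
  obtain ⟨U, hU, hsub⟩ := h3 (g y')
  refine exists_affine_fibre f i' j' U hU y' fun z hz => ?_
  show f (i' z) ∈ U
  rw [← Scheme.Hom.comp_apply, ← hX.w, Scheme.Hom.comp_apply]
  refine hsub ?_
  show j (h z) = g y'
  rw [← Scheme.Hom.comp_apply, hY.w, Scheme.Hom.comp_apply, show j' z = y' from hz]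

/-- Adapted pairs along thickenings. -/
theorem exists_pair_thickening [IsAffineHom j] (hi : Function.Surjective i) (y : Y) :
    ∃ π : AP i j, y ∈ π.V := by
  obtain ⟨V, hV, hyV, -⟩ := exists_isAffineOpen_mem_and_subset (Set.mem_univ y) (U := (⊤ : Y.Opens))
  let W : Z.Opens := j ⁻¹ᵁ V
  let U : X.Opens := ⟨i '' (W : Set Z), by
    have hh : IsOpen (i '' (W : Set Z)) :=
      ((Equiv.ofBijective i ⟨i.isClosedEmbedding.injective, hi⟩).toHomeomorphOfIsInducing
        i.isClosedEmbedding.isInducing).isOpenMap _ W.2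
    exact hh⟩
  have hW : i ⁻¹ᵁ U = W := TopologicalSpace.Opens.ext
    (Set.preimage_image_eq _ i.isClosedEmbedding.injective)
  have hU : IsAffineOpen U := by
    haveI : IsAffine (i ⁻¹ᵁ U).toScheme := hW.symm ▸ hV.preimage j
    haveI : IsClosedImmersion (i ∣_ U) := IsZariskiLocalAtTarget.restrict ‹_› U
    exact H7Lim.isAffine_of_surjective_closedImmersion (t := i ∣_ U) fun x => by
      obtain ⟨z, hz, hzx⟩ := x.2
      exact ⟨⟨z, hW.symm ▸ hz⟩, Subtype.ext ((morphismRestrict_base_coe i U _).trans hzx)⟩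
  exact ⟨⟨U, V, hU, hV, hW⟩, hyV⟩

end Groth.Agent.H12AlgSp.SpPush
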