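import Groth.Agent.H12AlgSp.SpPush.Pinch
import Groth.Agent.H13Desc.EffColimit

/-!
Scheme pushouts as pushouts among algebraic spaces.
-/

set_option autoImplicit false
set_option backward.isDefEq.respectTransparency false
set_option linter.style.haveILetI false

universe u

open CategoryTheory CategoryTheory.Limits AlgebraicGeometry Opposite
open AlgSp

namespace Groth.Agent.H12AlgSp.SpPush

variable {S : Scheme.{u}} {Z X Y P : Over S} (i : Z ⟶ X) (j : Z ⟶ Y) (a : X ⟶ P) (b : Y ⟶ P)

theorem isPushout_ofScheme (hpo : IsPushout i j a b) (hbc : FlatStable a.left b.left)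
    (hlift : EtaleLift i.left j.left a.left b.left) :
    IsPushout ((ofScheme S).map i) ((ofScheme S).map j) ((ofScheme S).map a) ((ofScheme S).map b) := by
  refine ⟨⟨((ofScheme S).map_comp i a).symm.trans ((congrArg (ofScheme S).map hpo.w).trans
    ((ofScheme S).map_comp j b))⟩, ⟨PushoutCocone.isColimitAux' _ fun s => ?_⟩⟩
  have h : ∃ m : (yon S).obj P ⟶ s.pt.obj, (yon S).map a ≫ m = s.inl.hom ∧ (yon S).map b ≫ m = s.inr.hom :=
    (Groth.Agent.H13EffColim.exists_separated_atlas s.pt.property).elim fun U ⟨p, hU, hp, hps⟩ =>
      exists_desc s.pt.property (hpo.map (Over.forget S)) hbc hlift hp hps hU s.inl.hom s.inr.hom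
        (congrArg InducedCategory.Hom.hom s.condition)
  refine ⟨ObjectProperty.homMk h.choose, ObjectProperty.hom_ext _ h.choose_spec.1,
    ObjectProperty.hom_ext _ h.choose_spec.2, fun {m} e1 e2 => ObjectProperty.hom_ext _ ?_⟩
  refine hom_ext s.pt.property hbc (𝟙 P) (show Flat (𝟙 _) from inferInstance) (fun Q l x e => ?_)
    (fun Q l y e => ?_)
  · rw [Category.comp_id] at e
    rw [e, Functor.map_comp, Category.assoc, Category.assoc]
    exact congrArg ((yon S).map x ≫ ·) ((congrArg InducedCategory.Hom.hom e1).trans h.choose_spec.1.symm)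
  · rw [Category.comp_id] at e
    rw [e, Functor.map_comp, Category.assoc, Category.assoc]
    exact congrArg ((yon S).map y ≫ ·) ((congrArg InducedCategory.Hom.hom e2).trans h.choose_spec.2.symm)

theorem isPushout_thickening [IsAffineHom j.left] (hi : MoreMor.IsThickening i.left) (hpo : IsPushout i j a b) :
    IsPushout ((ofScheme S).map i) ((ofScheme S).map j) ((ofScheme S).map a) ((ofScheme S).map b) := by
  haveI : IsClosedImmersion i.left := hi.1
  have hcov := exists_pair_thickening i.left j.left hi.2.surj
  have h := hpo.map (Over.forget S)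
  refine isPushout_ofScheme i j a b hpo (flatStable_of_cov i.left j.left h hcov)
    (etaleLift_of_cov i.left j.left h hcov fun X' Y' Z' f g k i' j' hX hY _ _ _ _ => ?_)
  haveI : IsClosedImmersion i' := MorphismProperty.of_isPullback hX inferInstance
  haveI : IsAffineHom j' := MorphismProperty.of_isPullback hY inferInstance
  haveI : Surjective i.left := hi.2
  exact exists_pair_thickening i' j' (MorphismProperty.of_isPullback (P := @Surjective) hX inferInstance : Surjective i').surj

theorem isPushout_integral [IsClosedImmersion i.left] [IsIntegralHom j.left]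
    (h3 : ∀ y : Y.left, ∃ U : X.left.Opens, IsAffineOpen U ∧ j.left ⁻¹' {y} ⊆ i.left ⁻¹' (U : Set X.left))
    (hpo : IsPushout i j a b) :
    IsPushout ((ofScheme S).map i) ((ofScheme S).map j) ((ofScheme S).map a) ((ofScheme S).map b) := by
  have hcov := H7Flat.exists_adapted_pair i.left j.left h3
  have h := hpo.map (Over.forget S)
  exact isPushout_ofScheme i j a b hpo (flatStable_of_cov i.left j.left h hcov)
    (etaleLift_of_cov i.left j.left h hcov (exists_pair_integral i.left j.left h3))

end Groth.Agent.H12AlgSp.SpPush
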