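import Groth.Agent.H12AlgSp.SpPush.Closed
import Groth.Agent.H12AlgSp.IdealEt
import Groth.Agent.H17.PushoutSupInf
import Groth.Agent.H13Desc.EffColimit

/-!
The scheme theoretic union of closed subspaces is the pushout along their intersection.
-/

set_option autoImplicit false
set_option backward.isDefEq.respectTransparency false
set_option linter.style.haveILetI false

universe u

open CategoryTheory CategoryTheory.Limits AlgebraicGeometry Opposite
open AlgSp Groth.Agent.H13AlgSp Groth.Agent.H13Cartier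

namespace Groth.Agent.H12AlgSp.SpPush

variable {S : Scheme.{u}} {X : Sp S}

theorem isQCoh_sup' {I J : IdealEt X} (hI : I.IsQCoh) (hJ : J.IsQCoh) : (I ⊔ J).IsQCoh := fun E E' g hE hE' => by
  rw [IdealEt.sup_ideal, IdealEt.sup_ideal, Ideal.map_sup]
  exact sup_le_sup (hI g hE hE') (hJ g hE hE')

theorem comap_ι_eq {Z : Sp S} {i : Z ⟶ X} {I : IdealEt X} (h : IsCutOutBy I i) (hI : I.IsQCoh) {U : Over S}
    {p : (yon S).obj U ⟶ X} (hp : RepWith @Etale p) {J : U.left.IdealSheafData} (hJ : CutsOut i p J)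
    (O : U.left.affineOpens) :
    J.ideal O = (chartIdeal hp I hI).ideal O := by
  have : IsAffine (O.1 : Scheme.{u}) := O.2
  have hc := hJ.comap (openIncl U O.1)
  have h1 := ideal_eq_of_cutsOut h (openEt hp O) O.2 (K := J.comap O.1.ι) hc
  have h2 := comap_chartIdeal_ι hp I hI O
  rw [← h1, H29Blow.ideal_comap_ι] at h2
  have h3 := congrArg (Ideal.map O.1.topIso.hom.hom) h2
  rw [H29Blow.ideal_comap_ι] at h3
  simp only [Ideal.map_map, ← CommRingCat.hom_comp, Iso.inv_hom_id, CommRingCat.hom_id, Ideal.map_id] at h3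
  exact h3.symm

/-- The ideal of a cut out subspace on any chart. -/
theorem cutsOut_chartIdeal {Z : Sp S} {i : Z ⟶ X} {I : IdealEt X} (h : IsCutOutBy I i) (hI : I.IsQCoh) {U : Over S}
    {p : (yon S).obj U ⟶ X} (hp : RepWith @Etale p) : CutsOut i p (chartIdeal hp I hI) := by
  obtain ⟨J, hJ⟩ := exists_cutsOut h.1 p
  exact Scheme.IdealSheafData.ext (funext fun O => comap_ι_eq h hI hp hJ O) ▸ hJ

theorem map_inf_of_iso {R R' : CommRingCat.{u}} (e : R ≅ R') (a b : Ideal R) :
    (a ⊓ b).map e.hom.hom = a.map e.hom.hom ⊓ b.map e.hom.hom := by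
  refine le_antisymm (le_inf (Ideal.map_mono inf_le_left) (Ideal.map_mono inf_le_right)) ?_
  rintro x ⟨hxa, hxb⟩
  have hbij := ConcreteCategory.bijective_of_isIso e.hom
  obtain ⟨y, hy, rfl⟩ := (Ideal.mem_map_iff_of_surjective e.hom.hom hbij.2).1 hxa
  obtain ⟨y', hy', e'⟩ := (Ideal.mem_map_iff_of_surjective e.hom.hom hbij.2).1 hxb
  exact Ideal.mem_map_of_mem _ ⟨hy, hbij.1 e' ▸ hy'⟩

theorem chartIdeal_inf {I J K : IdealEt X} (hI : I.IsQCoh) (hJ : J.IsQCoh) (hK : K.IsQCoh)
    (h : ∀ (E : EtOver X) (hE : IsAffine E.obj.left.left), K.ideal E hE = I.ideal E hE ⊓ J.ideal E hE)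
    {U : Over S} {p : (yon S).obj U ⟶ X} (hp : RepWith @Etale p) :
    chartIdeal hp K hK = chartIdeal hp I hI ⊓ chartIdeal hp J hJ := by
  refine Scheme.IdealSheafData.ext (funext fun O => ?_)
  rw [Scheme.IdealSheafData.ideal_inf, Pi.inf_apply]
  exact (congrArg (Ideal.map O.1.topIso.hom.hom) (h (openEt hp O) O.2)).trans (map_inf_of_iso O.1.topIso _ _)

theorem chartIdeal_sup {I J : IdealEt X} (hI : I.IsQCoh) (hJ : J.IsQCoh) {U : Over S}
    {p : (yon S).obj U ⟶ X} (hp : RepWith @Etale p) :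
    chartIdeal hp (I ⊔ J) (isQCoh_sup' hI hJ) = chartIdeal hp I hI ⊔ chartIdeal hp J hJ := by
  refine Scheme.IdealSheafData.ext (funext fun O => ?_)
  simp only [chartIdeal, Scheme.IdealSheafData.ideal_sup, Pi.sup_apply, IdealEt.sup_ideal, Ideal.map_sup]

theorem main {Y Z W V : Sp S} (hX : IsAlgSpace X) {iY : Y ⟶ X} {iZ : Z ⟶ X} {w : W ⟶ X}
    {v : V ⟶ X} {I J K : IdealEt X} (hI : I.IsQCoh) (hJ : J.IsQCoh)
    (hK : ∀ (E : EtOver X) (hE : IsAffine E.obj.left.left), K.ideal E hE = I.ideal E hE ⊓ J.ideal E hE)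
    (hY : IsCutOutBy I iY) (hZ : IsCutOutBy J iZ) (hW : IsCutOutBy K w)
    (hV : IsCutOutBy (I ⊔ J) v) (a : Y ⟶ W) (b : Z ⟶ W) (c : V ⟶ Y) (d : V ⟶ Z)
    (ha : a ≫ w = iY) (hb : b ≫ w = iZ) (hc : c ≫ iY = v) (hd : d ≫ iZ = v) :
    RepWith @IsClosedImmersion a ∧ RepWith @IsClosedImmersion b ∧
      ∀ (T : Sp S), IsAlgSpace T → ∀ (gY : Y ⟶ T) (gZ : Z ⟶ T), c ≫ gY = d ≫ gZ →
        ∃! m : W ⟶ T, a ≫ m = gY ∧ b ≫ m = gZ := by
  have hwm : Mono w := mono_of_closedImmersion hW.1
  have hYm : Mono iY := mono_of_closedImmersion hY.1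
  have hZm : Mono iZ := mono_of_closedImmersion hZ.1
  have hca : ∀ {A : Sp S} (α : A ⟶ W) (iA : A ⟶ X), α ≫ w = iA → RepWith @IsClosedImmersion iA →
      RepWith @IsClosedImmersion α := fun {A} α iA e h => by
    have hm : Mono iA := mono_of_closedImmersion h
    refine repWith_of_isPullback (sq := (?_ : IsPullback (𝟙 A) α iA w)) h
    refine IsPullback.of_isLimit' ⟨by rw [Category.id_comp, e]⟩ (PullbackCone.IsLimit.mk _ (fun s => s.fst)
      (fun s => Category.comp_id _) (fun s => ?_) fun s m h1 _ => by simpa using h1)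
    rw [← cancel_mono w, Category.assoc, e]
    exact s.condition
  refine ⟨hca a iY ha hY.1, hca b iZ hb hZ.1, fun T hT gY gZ hg => ?_⟩
  obtain ⟨U, p, hp, hps⟩ := hX.atlas
  have hKq : K.IsQCoh := isQCoh_of_isCutOutBy hW
  have cY := cutsOut_chartIdeal hY hI hp
  have cZ := cutsOut_chartIdeal hZ hJ hp
  have cW : CutsOut w p (chartIdeal hp I hI ⊓ chartIdeal hp J hJ) :=
    chartIdeal_inf hI hJ hKq hK hp ▸ cutsOut_chartIdeal hW hKq hp
  have cV : CutsOut v p (chartIdeal hp I hI ⊔ chartIdeal hp J hJ) :=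
    chartIdeal_sup hI hJ hp ▸ cutsOut_chartIdeal hV (isQCoh_sup' hI hJ) hp
  generalize chartIdeal hp I hI = A at cY cW cV
  generalize chartIdeal hp J hJ = B at cZ cW cV
  obtain ⟨qY, sY⟩ := cY
  obtain ⟨qZ, sZ⟩ := cZ
  obtain ⟨qW, sW⟩ := cW
  obtain ⟨qV, sV⟩ := cV
  let oI {M N : U.left.IdealSheafData} (h : M ≤ N) : subOver U N ⟶ subOver U M :=
    Over.homMk (Scheme.IdealSheafData.inclusion h) (by simp [subOver])
  have oI_incl : ∀ {M N : U.left.IdealSheafData} (h : M ≤ N), oI h ≫ subIncl U M = subIncl U N :=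
    fun h => Over.OverMorphism.ext (Scheme.IdealSheafData.inclusion_subschemeι _)
  let iA : subOver U (A ⊔ B) ⟶ subOver U A := oI le_sup_left
  let jB : subOver U (A ⊔ B) ⟶ subOver U B := oI le_sup_right
  let aA : subOver U A ⟶ subOver U (A ⊓ B) := oI inf_le_left
  let bB : subOver U B ⟶ subOver U (A ⊓ B) := oI inf_le_right
  haveI : IsClosedImmersion iA.left := inferInstanceAs (IsClosedImmersion (Scheme.IdealSheafData.inclusion _))
  haveI : IsClosedImmersion jB.left := inferInstanceAs (IsClosedImmersion (Scheme.IdealSheafData.inclusion _))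
  have hpo : IsPushout iA.left jB.left aA.left bB.left := Groth.Agent.H17.PushoutSupInf.isPushout A B
  have caA : (yon S).map aA ≫ qW = qY ≫ a := by
    rw [← cancel_mono w, Category.assoc, Category.assoc, sW.w, ha, sY.w, ← Category.assoc, ← Functor.map_comp,
      oI_incl]
  have cbB : (yon S).map bB ≫ qW = qZ ≫ b := by
    rw [← cancel_mono w, Category.assoc, Category.assoc, sW.w, hb, sZ.w, ← Category.assoc, ← Functor.map_comp,
      oI_incl]
  have ciA : (yon S).map iA ≫ qY = qV ≫ c := by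
    rw [← cancel_mono iY, Category.assoc, Category.assoc, sY.w, hc, sV.w, ← Category.assoc, ← Functor.map_comp,
      oI_incl]
  have cjB : (yon S).map jB ≫ qZ = qV ≫ d := by
    rw [← cancel_mono iZ, Category.assoc, Category.assoc, sZ.w, hd, sV.w, ← Category.assoc, ← Functor.map_comp,
      oI_incl]
  have hqe : RepWith @Etale qW := repWith_of_isPullback sW.flip hp
  have hqs : RepWith @Surjective qW := repWith_of_isPullback sW.flip hps
  haveI := epi_of_etale_surjective hqe hqs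
  have hbc := flatStable_closed iA.left jB.left hpo
  obtain ⟨U₁, p₁, hU₁, hp₁, hp₁s⟩ := Groth.Agent.H13EffColim.exists_separated_atlas hT
  obtain ⟨m₀, hm₁, hm₂⟩ := exists_desc hT hpo hbc (etaleLift_closed iA.left jB.left hpo) hp₁ hp₁s hU₁
    (qY ≫ gY) (qZ ≫ gZ) (by rw [← Category.assoc, ← Category.assoc, ciA, cjB, Category.assoc, Category.assoc, hg])
  -- a point of the chart of the union lying in one piece
  have ptY : ∀ (Q : Over S) (x : Q ⟶ subOver U (A ⊓ B)) (y : (yon S).obj Q ⟶ Y),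
      (yon S).map x ≫ qW = y ≫ a → (yon S).map x ≫ m₀ = y ≫ gY := fun Q x y e => by
    have e' : y ≫ iY = ((yon S).map (x ≫ subIncl U (A ⊓ B))) ≫ p := by
      rw [← ha, ← Category.assoc, ← e, Category.assoc, sW.w, ← Category.assoc, ← Functor.map_comp]
    obtain ⟨l, hl₁, hl₂⟩ := sY.exists_lift _ _ e'
    obtain ⟨l, rfl⟩ := (yon S).map_surjective l
    have hx : x = l ≫ aA := by
      haveI : Mono (subIncl U (A ⊓ B)).left := inferInstanceAs (Mono (Scheme.IdealSheafData.subschemeι _))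
      haveI : Mono (subIncl U (A ⊓ B)) := (Over.forget S).mono_of_mono_map ‹_›
      rw [← cancel_mono (subIncl U (A ⊓ B)), Category.assoc, oI_incl]
      exact ((yon S).map_injective (by rw [Functor.map_comp, hl₂])).symm
    rw [hx, Functor.map_comp, Category.assoc, hm₁, ← Category.assoc, hl₁]
  have ptZ : ∀ (Q : Over S) (x : Q ⟶ subOver U (A ⊓ B)) (y : (yon S).obj Q ⟶ Z),
      (yon S).map x ≫ qW = y ≫ b → (yon S).map x ≫ m₀ = y ≫ gZ := fun Q x y e => by
    have e' : y ≫ iZ = ((yon S).map (x ≫ subIncl U (A ⊓ B))) ≫ p := by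
      rw [← hb, ← Category.assoc, ← e, Category.assoc, sW.w, ← Category.assoc, ← Functor.map_comp]
    obtain ⟨l, hl₁, hl₂⟩ := sZ.exists_lift _ _ e'
    obtain ⟨l, rfl⟩ := (yon S).map_surjective l
    have hx : x = l ≫ bB := by
      haveI : Mono (subIncl U (A ⊓ B)).left := inferInstanceAs (Mono (Scheme.IdealSheafData.subschemeι _))
      haveI : Mono (subIncl U (A ⊓ B)) := (Over.forget S).mono_of_mono_map ‹_›
      rw [← cancel_mono (subIncl U (A ⊓ B)), Category.assoc, oI_incl]
      exact ((yon S).map_injective (by rw [Functor.map_comp, hl₂])).symm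
    rw [hx, Functor.map_comp, Category.assoc, hm₂, ← Category.assoc, hl₁]
  obtain ⟨R, t, s, -, ht, sqR⟩ := exists_kernelPair hqe
  have hts : (yon S).map t ≫ qW = (yon S).map s ≫ qW := by first | exact sqR.w | exact sqR.w.symm
  have hag : (yon S).map t ≫ m₀ = (yon S).map s ≫ m₀ := by
    refine hom_ext hT hbc s inferInstance (fun Q l x e => ?_) (fun Q l y e => ?_)
    · have h1 : (yon S).map (l ≫ s) ≫ qW = ((yon S).map x ≫ qY) ≫ a := by
        rw [e, Functor.map_comp, Category.assoc, caA, Category.assoc]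
      have h2 : (yon S).map (l ≫ t) ≫ qW = ((yon S).map x ≫ qY) ≫ a := by
        rw [← h1, Functor.map_comp, Functor.map_comp, Category.assoc, Category.assoc, hts]
      simp only [← Category.assoc, ← Functor.map_comp, ptY _ _ _ h1, ptY _ _ _ h2]
    · have h1 : (yon S).map (l ≫ s) ≫ qW = ((yon S).map y ≫ qZ) ≫ b := by
        rw [e, Functor.map_comp, Category.assoc, cbB, Category.assoc]
      have h2 : (yon S).map (l ≫ t) ≫ qW = ((yon S).map y ≫ qZ) ≫ b := by
        rw [← h1, Functor.map_comp, Functor.map_comp, Category.assoc, Category.assoc, hts]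
      simp only [← Category.assoc, ← Functor.map_comp, ptZ _ _ _ h1, ptZ _ _ _ h2]
  haveI : IsRegularEpi qW := IsRegularEpiCategory.regularEpiOfEpi _
  have hcond : IsRegularEpi.left qW ≫ m₀ = IsRegularEpi.right qW ≫ m₀ := by
    obtain ⟨l, hl₁, hl₂⟩ := sqR.exists_lift _ _ (IsRegularEpi.w qW)
    rw [← hl₁, ← hl₂, Category.assoc, Category.assoc]
    first | rw [hag] | rw [← hag]
  have hm : qW ≫ IsRegularEpi.desc qW m₀ hcond = m₀ := Cofork.IsColimit.π_desc' (IsRegularEpi.isColimit _) _ hcond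
  have hYe : Epi qY := epi_of_etale_surjective (repWith_of_isPullback sY.flip hp) (repWith_of_isPullback sY.flip hps)
  have hZe : Epi qZ := epi_of_etale_surjective (repWith_of_isPullback sZ.flip hp) (repWith_of_isPullback sZ.flip hps)
  refine ⟨IsRegularEpi.desc qW m₀ hcond, ⟨?_, ?_⟩, fun m ⟨h1, h2⟩ => ?_⟩
  · rw [← cancel_epi qY, ← reassoc_of% caA, hm, hm₁]
  · rw [← cancel_epi qZ, ← reassoc_of% cbB, hm, hm₂]
  · rw [← cancel_epi qW, hm]
    refine hom_ext hT hbc (𝟙 _) (show Flat (𝟙 _) from inferInstance) (fun Q l x e => ?_) (fun Q l y e => ?_)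
    · rw [Category.comp_id] at e
      rw [e, Functor.map_comp, Category.assoc, Category.assoc, reassoc_of% caA, h1, hm₁]
    · rw [Category.comp_id] at e
      rw [e, Functor.map_comp, Category.assoc, Category.assoc, reassoc_of% cbB, h2, hm₂]

end Groth.Agent.H12AlgSp.SpPush
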